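import Cfsg.Agent.H865.EE.Base
import Cfsg.Agent.H405.UE.GD
import Cfsg.Agent.ChevalleyStructure.StTheta
import Cfsg.Agent.S1054
import Cfsg.Agent.S1077
import Cfsg.Agent.S1097

/-!
# S3384, piece P: commutators in `chevE8.group k`, `k` of characteristic 2 (helper405)
-/

set_option autoImplicit false
set_option linter.unusedSectionVars false

open CoxeterSystem Subgroup Cfsg Cfsg.Lie Cfsg.Lie.ChevalleyDatum
open Cfsg.Agent.ChevalleyStructure Cfsg.Agent.ChevalleyStructure.Elts Cfsg.Agent.ChevalleyStructure.CoxeterGeom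
  Cfsg.Agent.ChevalleyStructure.CoxeterGeomTypes Cfsg.Agent.ChevalleyStructure.NPerm
  Cfsg.Agent.ChevalleyStructure.RootVec
open Cfsg.Agent.Tits.Roots Cfsg.Agent.Tits.Core Cfsg.Agent.Nodes Cfsg.Agent.Nodes.Reps Cfsg.Agent.Nodes.BNOf
  Cfsg.Agent.Nodes.RGDChev Cfsg.Agent.Nodes.Bruhat Cfsg.Agent.Nodes.Coroot
open Cfsg.Agent.KFacts.RgdField Cfsg.Agent.KFacts.RgdChevCoord
open Cfsg.Agent.BpExc.TowChev Cfsg.Agent.H129.TorusChar Cfsg.Agent.H865.EE

namespace Cfsg.Agent.H405.EE

/-! ### simply laced tables -/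

/-- every chain has one entry, with coefficient `±1` -/
def slOK (D : ChevalleyDatum) : Bool :=
  D.chain.toList.all fun row => row.toList.all fun e =>
    match e.2.toList with
    | [q] => q.2 == 1 || q.2 == -1
    | _ => false

theorem slOK_D4 : slOK chevD4 = true := by decide +kernel
theorem slOK_E8 : slOK chevE8 = true := by decide +kernel

variable {D : ChevalleyDatum}

theorem chainEntry_sl (h : slOK D = true) (r s : ℕ) :
    D.chainEntry r s = [] ∨ ∃ u c, D.chainEntry r s = [(u, c)] ∧ (c = 1 ∨ c = -1) := by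
  by_cases h0 : D.chainEntry r s = []
  · exact Or.inl h0
  right
  obtain ⟨e, he, -, h1⟩ := chainEntry_eq_some (D := D) r s h0
  have h2 : D.chain.getD r #[] ∈ D.chain.toList := by
    by_cases hr : r < D.chain.toList.length
    · rw [getD_toList D.chain #[] hr]
      exact List.getElem_mem hr
    · exfalso
      have : D.chain.getD r #[] = #[] := by
        rw [Array.getD_eq_getD_getElem?, Array.getElem?_eq_none (by rw [Array.length_toList] at hr; omega)]
        rfl
      rw [row_def, this] at he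
      simp at he
  have h3 := List.all_eq_true.1 (List.all_eq_true.1 h _ h2) e he
  rw [h1]
  rcases hE : e.2.toList with _ | ⟨⟨u, c⟩, _ | ⟨q, L⟩⟩
  · rw [hE] at h3; simp at h3
  · rw [hE] at h3
    refine ⟨u, c, rfl, ?_⟩
    simpa using h3
  · rw [hE] at h3; simp at h3

theorem commTerms_sl (h : slOK D = true) (r s : ℕ) :
    (D.chainEntry r s = [] ∧ D.commTerms r s = []) ∨
      ∃ u c, D.chainEntry r s = [(u, c)] ∧ D.commTerms r s = [(u, c, 1, 1)] ∧ (c = 1 ∨ c = -1) := by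
  have hlen : ∀ r s, (D.chainEntry r s).length ≤ 1 := by
    intro r s
    rcases chainEntry_sl h r s with h1 | ⟨u, c, h1, -⟩ <;> rw [h1] <;> simp
  have hroot : ∀ r s k, 2 ≤ k → D.chainRoot r s k = none := by
    intro r s k hk
    have := hlen r s
    show ((D.chainEntry r s)[k - 1]?).map Prod.fst = none
    rw [List.getElem?_eq_none (by omega)]
    rfl
  have hdef : D.commTerms r s = ([ (D.chainRoot r s 1, D.chainM r s 1, 1, 1),
      (D.chainRoot r s 2, D.chainM r s 2, 2, 1),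
      (D.chainRoot s r 2, D.chainM s r 2, 1, 2),
      (D.chainRoot r s 3, D.chainM r s 3, 3, 1),
      (D.chainRoot s r 3, - D.chainM s r 3, 1, 3),
      ((D.chainRoot r s 3).bind fun k => D.chainRoot k s 1, ((D.chainRoot r s 1).map fun k => D.chainM k r 2 / 3).getD 0, 3, 2),
      ((D.chainRoot s r 3).bind fun k => D.chainRoot k r 1, ((D.chainRoot r s 1).map fun k => -2 * D.chainM k s 2 / 3).getD 0, 2, 3) ] :
      List (Option ℕ × ℤ × ℕ × ℕ)).filterMap fun c => c.1.map fun k => (k, c.2) := rfl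
  rw [hroot r s 2 le_rfl, hroot s r 2 le_rfl, hroot r s 3 (by norm_num), hroot s r 3 (by norm_num)] at hdef
  have hM : D.chainM r s 1 = (((D.chainEntry r s)[0]?).map Prod.snd).getD 0 := rfl
  have hR : D.chainRoot r s 1 = ((D.chainEntry r s)[0]?).map Prod.fst := rfl
  rcases chainEntry_sl h r s with h1 | ⟨u, c, h1, hc⟩
  · left
    refine ⟨h1, ?_⟩
    rw [h1] at hR
    rw [hdef, hR]
    simp
  · right
    refine ⟨u, c, h1, ?_, hc⟩
    rw [h1] at hR hM
    rw [hdef, hR, hM]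
    simp

/-! ### commutators in `chevE8.group k` -/

variable {k : Type} [Field k] [CharP k 2]

theorem neg_one_eq : (-1 : k) = 1 := by
  have h : (2 : k) = 0 := CharTwo.two_eq_zero
  linear_combination (-1 : k) * h

theorem cast_pm {c : ℤ} (hc : c = 1 ∨ c = -1) : (c : k) = 1 := by
  rcases hc with rfl | rfl
  · simp
  · push_cast; exact neg_one_eq

/-- commutators with a simple root -/
theorem comm_simple (i : Fin 8) {b : Fin 8 → ℤ} (hb : Rt b) (h1 : b ≠ sr i) (h2 : b ≠ -sr i) (t u : k) :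
    (bf (sr i) b = -1 → Rt (sr i + b) ∧
      (xc tp8 b u)⁻¹ * (xc tp8 (sr i) t)⁻¹ * xc tp8 b u * xc tp8 (sr i) t = xc tp8 (sr i + b) (t * u)) ∧
    (bf (sr i) b ≠ -1 →
      (xc tp8 b u)⁻¹ * (xc tp8 (sr i) t)⁻¹ * xc tp8 b u * xc tp8 (sr i) t = 1) := by
  obtain ⟨s, hs, rfl⟩ := (RGDChev.isRoot_iff tp8 cs8 b).1 hb
  have hck := tp8.checked
  have hi := NPerm.simple_lt tp8.inList (lt_rank tp8 i)
  have hsr : s ≠ chevE8.simple i := by
    intro h; apply h1; rw [h, vec_simple tp8 i]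
  have hsn : s ≠ chevE8.neg (chevE8.simple i) := by
    intro h; apply h2; rw [h, vec_neg tp8 hi, vec_simple tp8 i]
  have hbf : bf (sr i) (vec chevE8 8 s) = chevE8.cartan i s := by
    rw [bf_comm, bf_sr, pairing_vec tp8 i hs]
  have hcomm : ((xc tp8 (vec chevE8 8 s) u)⁻¹ * (xc tp8 (sr i) t)⁻¹ * xc tp8 (vec chevE8 8 s) u * xc tp8 (sr i) t :
      ↥(chevE8.group k)).1 = wordG tp8.inList (chevE8.commWord k (chevE8.simple i) s t u) := by
    rw [Subgroup.coe_mul, Subgroup.coe_mul, Subgroup.coe_mul, Subgroup.coe_inv, Subgroup.coe_inv, coe_xc tp8 hs,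
      ← vec_simple tp8 i, coe_xc tp8 hi, ← comm_xG tp8 hi hs hsr hsn t u, commutatorElement_def, inv_inv, inv_inv]
  rcases commTerms_sl slOK_E8 (chevE8.simple i) s with ⟨e1, e2⟩ | ⟨v, c, e1, e2, hc⟩
  · have hw : chevE8.commWord k (chevE8.simple i) s t u = [] := by
      unfold ChevalleyDatum.commWord
      rw [e2, List.map_nil]
    rw [hw, wordG_nil] at hcomm
    refine ⟨fun h => ?_, fun _ => Subtype.ext hcomm⟩
    exfalso
    rw [hbf] at h
    obtain ⟨v, hv⟩ := refl_neg hck (lt_rank tp8 i) hs hsr hsn (by rw [h]; norm_num)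
    have hR : chevE8.chainRoot (chevE8.simple i) s (-chevE8.cartan i s).toNat =
      ((chevE8.chainEntry (chevE8.simple i) s)[(-chevE8.cartan i s).toNat - 1]?).map Prod.fst := rfl
    rw [hR, e1] at hv
    simp at hv
  · have hmem : (v, c, 1, 1) ∈ chevE8.commTerms (chevE8.simple i) s := by rw [e2]; exact List.mem_cons_self
    obtain ⟨hv, -, -, -, -, hvec⟩ := commTerms_rt hck hmem
    have hvec' : vec chevE8 8 v = sr i + vec chevE8 8 s := by
      rw [← vec_simple tp8 i]
      funext j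
      rw [vec_apply, hvec, Pi.add_apply, vec_apply, vec_apply]
      push_cast
      ring
    have hRv : Rt (sr i + vec chevE8 8 s) := by
      rw [← hvec']
      exact (RGDChev.isRoot_iff tp8 cs8 _).2 ⟨v, hv, rfl⟩
    have hw : chevE8.commWord k (chevE8.simple i) s t u = [(v, (c : k) * (-t) ^ 1 * u ^ 1)] := by
      unfold ChevalleyDatum.commWord
      rw [e2, List.map_cons, List.map_nil]
    have hval : (c : k) * (-t) ^ 1 * u ^ 1 = t * u := by
      rw [cast_pm hc, pow_one, pow_one, one_mul]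
      have := neg_one_eq (k := k)
      linear_combination (t * u) * this
    refine ⟨fun _ => ⟨hRv, Subtype.ext ?_⟩, fun h => ?_⟩
    · rw [hcomm, hw, wordG_cons, wordG_nil, mul_one, hval, ← hvec', coe_xc tp8 hv]
    · exfalso
      have n1 := bf_self hRv
      rw [bf_add_left, bf_add_right, bf_add_right, bf_sr_sr, bf_self hb, bf_comm (vec chevE8 8 s)] at n1
      apply h
      omega

/-- **commutators of root elements** -/
theorem comm_root (hk : LocFin k) {a b : Fin 8 → ℤ} (ha : Rt a) (hb : Rt b) (h1 : b ≠ a) (h2 : b ≠ -a) (t u : k) :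
    (bf a b = -1 → Rt (a + b) ∧
      (xc tp8 b u)⁻¹ * (xc tp8 a t)⁻¹ * xc tp8 b u * xc tp8 a t = xc tp8 (a + b) (t * u)) ∧
    (bf a b ≠ -1 → (xc tp8 b u)⁻¹ * (xc tp8 a t)⁻¹ * xc tp8 b u * xc tp8 a t = 1) := by
  obtain ⟨v, i, rfl⟩ := ha
  have hb' : Rt (act v⁻¹ b) := hb.act v⁻¹
  have hvb : act v (act v⁻¹ b) = b := rep_apply_inv _ _ _ _
  have hvs : ∀ x, act v⁻¹ (act v x) = x := fun x => by rw [← act_mul, inv_mul_cancel, act_one]
  have h1' : act v⁻¹ b ≠ sr i := fun h => h1 (by rw [← hvb, h])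
  have h2' : act v⁻¹ b ≠ -sr i := fun h => h2 (by rw [← hvb, h, map_neg])
  have hbf : bf (sr i) (act v⁻¹ b) = bf (act v (sr i)) b := by
    rw [← bf_act v, hvb]
  obtain ⟨g1, g2⟩ := comm_simple (k := k) i hb' h1' h2' t u
  have c1 := nu_conj tp8 (k := k) hk v (isRoot_sr cs8 tp8.isCartan i) t
  have c2 := nu_conj tp8 (k := k) hk v hb' u
  have hvb' : rep cs8 tp8.isCartan v (act v⁻¹ b) = b := hvb
  rw [hvb'] at c2
  have key : (xc tp8 b u)⁻¹ * (xc tp8 (act v (sr i)) t)⁻¹ * xc tp8 b u * xc tp8 (act v (sr i)) t =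
      nu tp8 k v * ((xc tp8 (act v⁻¹ b) u)⁻¹ * (xc tp8 (sr i) t)⁻¹ * xc tp8 (act v⁻¹ b) u * xc tp8 (sr i) t) *
        (nu tp8 k v)⁻¹ := by
    have c1' : xc tp8 (act v (sr i)) t = nu tp8 k v * xc tp8 (sr i) t * (nu tp8 k v)⁻¹ := c1.symm
    rw [c1', ← c2]
    group
  rw [key]
  refine ⟨fun h => ?_, fun h => ?_⟩
  · rw [← hbf] at h
    obtain ⟨g3, g4⟩ := g1 h
    have e : act v (sr i) + b = act v (sr i + act v⁻¹ b) := by rw [map_add, hvb]
    refine ⟨by rw [e]; exact g3.act v, ?_⟩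
    rw [g4, e]
    exact nu_conj tp8 (k := k) hk v g3 _
  · rw [← hbf] at h
    rw [g2 h, mul_one, mul_inv_cancel]

end Cfsg.Agent.H405.EE
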