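import Cfsg.Agent.H405.EE.Psi

/-!
# S3384, piece P: the embedding of `chevD4.group k` into `chevE8.group k` in characteristic 2, end (helper405)

`exists_psi` : four roots of `E₈` of type `D₄` give an injective homomorphism `x_a(c) ↦ x_(Σ a_i b_i)(c)`.
-/

set_option autoImplicit false
set_option linter.unusedSectionVars false

open CoxeterSystem Subgroup Cfsg Cfsg.Lie Cfsg.Lie.ChevalleyDatum
open Cfsg.Agent.ChevalleyStructure Cfsg.Agent.ChevalleyStructure.Elts Cfsg.Agent.ChevalleyStructure.CoxeterGeom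
  Cfsg.Agent.ChevalleyStructure.CoxeterGeomTypes Cfsg.Agent.ChevalleyStructure.NPerm
  Cfsg.Agent.ChevalleyStructure.RootVec Cfsg.Agent.ChevalleyStructure.StTheta
open Cfsg.Agent.Tits.Roots Cfsg.Agent.Tits.Core Cfsg.Agent.Nodes Cfsg.Agent.Nodes.Reps Cfsg.Agent.Nodes.BNOf
  Cfsg.Agent.Nodes.RGDChev Cfsg.Agent.Nodes.Bruhat Cfsg.Agent.Nodes.Coroot
open Cfsg.Agent.KFacts.RgdField Cfsg.Agent.KFacts.RgdChevCoord
open Cfsg.Agent.BpExc.TowChev Cfsg.Agent.H129.TorusChar Cfsg.Agent.H865.EE Cfsg.Agent.H405.UE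

namespace Cfsg.Agent.H405.EE

variable {k : Type} [Field k] [CharP k 2]

theorem neg_isRt {a : Fin 8 → ℤ} (ha : Rt a) : Rt (-a) := IsRoot.neg ha

/-- characters of root torus elements -/
theorem cX_hrt (hk : LocFin k) {r : ℕ} (hr : r < chevE8.nroots) (c : kˣ) (v : Fin 8 → ℤ) :
    cX tp8 (hrt tp8 r (c : k)) v = ((c ^ bf v (vec chevE8 8 r) : kˣ) : k) := by
  obtain ⟨w, i, hw⟩ : Rt (vec chevE8 8 r) := (RGDChev.isRoot_iff tp8 cs8 _).2 ⟨r, hr, rfl⟩
  have hi := NPerm.simple_lt tp8.inList (lt_rank tp8 i)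
  have e : hrt tp8 r (c : k) = nu tp8 k w * hc tp8 i (c : k) * (nu tp8 k w)⁻¹ := by
    have c1 := fun t : k => nu_conj tp8 (k := k) hk w (isRoot_sr cs8 tp8.isCartan i) t
    have c2 := fun t : k => nu_conj tp8 (k := k) hk w (neg_isRt (isRoot_sr cs8 tp8.isCartan i)) t
    rw [← hw] at c1
    rw [map_neg, ← hw] at c2
    rw [hc_eq_hrt, hrt_xc hr, hrt_xc hi, vec_simple tp8 i]
    simp only [← c1, ← c2]
    group
  have h3 := cX_rp tp8 cs8 hk 2 (nu_rp tp8 hk w) (hc_mem tp8 i c.ne_zero) (act w⁻¹ v)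
  have h4 : rep cs8 tp8.isCartan w (act w⁻¹ v) = v := rep_apply_inv _ _ _ _
  rw [h4] at h3
  rw [e, h3, cX_hc, ← bf_sr, ← bf_act w, show act w (act w⁻¹ v) = v from h4, ← hw]

section

variable {b : Fin 4 → Fin 8 → ℤ} (hb : ∀ i, Rt (b i))
  (hG : ∀ i j, i ≠ j → bf (b i) (b j) = if Adj i j then -1 else 0) (hk : LocFin k)

/-- the homomorphism on the presented group -/
noncomputable def psi0 : chevD4.SteinbergGroup k →* ↥(chevE8.group k) :=
  PresentedGroup.toGroup (f := gn k b) (lift_rel hb hG hk)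

theorem psi0_mk (w : FreeGroup (Fin chevD4.nroots × k)) :
    psi0 hb hG hk (PresentedGroup.mk (chevD4.steinbergRels k) w) = FreeGroup.lift (gn k b) w := rfl

theorem psi0_stGen {r : ℕ} (hr : r < chevD4.nroots) (t : k) :
    psi0 hb hG hk (chevD4.stGen k r t) = xc tp8 (Em b (vec chevD4 4 r)) t := lift_stX b hr t

/-- the subgroup generated by the `h_i(t)` -/
abbrev Hb (k : Type) [Field k] : Subgroup (chevD4.SteinbergGroup k) :=
  Subgroup.closure {h | ∃ (i : ℕ) (t : k), i < chevD4.rank ∧ t ≠ 0 ∧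
    h = PresentedGroup.mk (chevD4.steinbergRels k) (chevD4.stH (chevD4.simple i) t)}

theorem Hb_char {z : chevD4.SteinbergGroup k} (hz : z ∈ Hb k) :
    psi0 hb hG hk z ∈ TT chevE8 k ∧ ∃ t : Fin 4 → kˣ, ∀ v : Fin 8 → ℤ,
      cX tp8 (psi0 hb hG hk z) v = ((∏ j, t j ^ bf v (b j) : kˣ) : k) := by
  induction hz using Subgroup.closure_induction with
  | one =>
    rw [map_one]
    refine ⟨one_mem _, fun _ => 1, fun v => ?_⟩
    rw [cX_one]
    simp
  | mem x hx =>
    obtain ⟨i, c, hi, hc0, rfl⟩ := hx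
    have hi4 : i < 4 := hi
    have hil := lt_rank tp4 (⟨i, hi4⟩ : Fin 4)
    have hs := NPerm.simple_lt tp4.inList hil
    have hvs : vec chevD4 4 (chevD4.simple i) = sr (⟨i, hi4⟩ : Fin 4) := vec_simple tp4 (⟨i, hi4⟩ : Fin 4)
    obtain ⟨r', hr', e⟩ := (RGDChev.isRoot_iff tp8 cs8 _).1 (hb ⟨i, hi4⟩)
    have e2 : vec chevE8 8 r' = Em b (vec chevD4 4 (chevD4.simple i)) := by
      rw [hvs, Em_sr]; exact e
    rw [psi0_mk, lift_stH hb hG hs hr' e2]
    have h1 := hrt_mem tp8 hr' (Units.mk0 c hc0)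
    rw [Units.val_mk0] at h1
    refine ⟨h1, fun j => if j = ⟨i, hi4⟩ then Units.mk0 c hc0 else 1, fun v => ?_⟩
    have h2 := cX_hrt hk hr' (Units.mk0 c hc0) v
    rw [Units.val_mk0] at h2
    rw [h2, Finset.prod_eq_single (⟨i, hi4⟩ : Fin 4)]
    · show _ = ((((if (⟨i, hi4⟩ : Fin 4) = ⟨i, hi4⟩ then Units.mk0 c hc0 else 1) : kˣ) ^ bf v (b ⟨i, hi4⟩) : kˣ) : k)
      rw [if_pos rfl, e]
    · intro j _ hj
      show (if j = (⟨i, hi4⟩ : Fin 4) then Units.mk0 c hc0 else 1) ^ bf v (b j) = 1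
      rw [if_neg hj, one_zpow]
    · intro h; exact absurd (Finset.mem_univ _) h
  | mul x y _ _ ihx ihy =>
    obtain ⟨hx, t, ht⟩ := ihx
    obtain ⟨hy, u, hu⟩ := ihy
    rw [map_mul]
    refine ⟨mul_mem hx hy, fun j => t j * u j, fun v => ?_⟩
    rw [cX_mul tp8 hx hy, ht, hu, ← Units.val_mul, ← Finset.prod_mul_distrib]
    congr 1
    exact Finset.prod_congr rfl fun j _ => (mul_zpow _ _ _).symm
  | inv x _ ih =>
    obtain ⟨hx, t, ht⟩ := ih
    rw [map_inv]
    refine ⟨inv_mem hx, fun j => (t j)⁻¹, fun v => ?_⟩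
    have h1 : cX tp8 ((psi0 hb hG hk x)⁻¹) v * cX tp8 (psi0 hb hG hk x) v = 1 := by
      rw [← cX_mul tp8 (inv_mem hx) hx, inv_mul_cancel, cX_one]
    rw [ht] at h1
    have h2 := eq_inv_of_mul_eq_one_left h1
    rw [h2, ← Units.val_inv_eq_inv_val, ← Finset.prod_inv_distrib]
    congr 1
    exact Finset.prod_congr rfl fun j _ => (inv_zpow _ _).symm

/-- torus elements commuting with a root subgroup -/
theorem cX_of_comm {t : ↥(chevE8.group k)} (ht : t ∈ TT chevE8 k) {a : Fin 8 → ℤ} (ha : Rt a)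
    (h : t * xc tp8 a 1 = xc tp8 a 1 * t) : cX tp8 t a = 1 := by
  obtain ⟨r, hr, rfl⟩ := (RGDChev.isRoot_iff tp8 cs8 _).1 ha
  have h1 := TT_zz tp8 ht hr 1
  rw [← zz_vec tp8 hr, ← zz_vec tp8 hr, h, mul_one] at h1
  exact (xc_inj tp8 hr (mul_right_cancel h1)).symm

theorem psi0_center {z : chevD4.SteinbergGroup k} (hz : z ∈ Hb k)
    (hc : z ∈ Subgroup.center (chevD4.SteinbergGroup k)) : psi0 hb hG hk z = 1 := by
  obtain ⟨hT, t, ht⟩ := Hb_char hb hG hk hz
  have h1 : ∀ i, ∏ j, t j ^ cartanOf chevD4 4 j i = 1 := by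
    intro i
    have hs := NPerm.simple_lt tp4.inList (lt_rank tp4 i)
    have h2 : cX tp8 (psi0 hb hG hk z) (b i) = 1 := by
      apply cX_of_comm hT (hb i)
      have h3 := psi0_stGen hb hG hk hs 1
      rw [vec_simple tp4 i, Em_sr] at h3
      rw [← h3, ← map_mul, ← map_mul, Subgroup.mem_center_iff.1 hc]
    rw [ht] at h2
    have h4 : (∏ j, t j ^ bf (b i) (b j) : kˣ) = 1 := Units.ext h2
    rw [← h4]
    refine Finset.prod_congr rfl fun j _ => ?_
    rw [bf_bb hb hG]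
  have hsymm : ∀ i j, cartanOf chevD4 4 i j = cartanOf chevD4 4 j i := by decide +kernel
  have key : ∀ (B : Fin 4 → Fin 4 → ℤ), InvC chevD4 4 2 B → ∀ m, t m ^ (2 : ℤ) = 1 := by
    intro B hB m
    have h5 : ∏ i, (∏ j, t j ^ cartanOf chevD4 4 j i) ^ B m i = 1 :=
      Finset.prod_eq_one fun i _ => by rw [h1, one_zpow]
    have h6 : ∏ i, (∏ j, t j ^ cartanOf chevD4 4 j i) ^ B m i = ∏ j, t j ^ (∑ i, B m i * cartanOf chevD4 4 i j) := by
      simp only [← Finset.prod_zpow]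
      rw [Finset.prod_comm]
      refine Finset.prod_congr rfl fun j _ => ?_
      rw [← prod_zpow_sum]
      refine Finset.prod_congr rfl fun i _ => ?_
      rw [← zpow_mul, hsymm i j, mul_comm]
    rw [h6, Finset.prod_eq_single m] at h5
    · have h7 := hB m m
      rw [if_pos rfl] at h7
      push_cast at h7
      rw [h7] at h5
      exact h5
    · intro j _ hj
      have h7 := hB m j
      rw [if_neg (Ne.symm hj)] at h7
      rw [h7, zpow_zero]
    · intro h; exact absurd (Finset.mem_univ m) h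
  have ht1 : ∀ m, t m = 1 := by
    intro m
    have h8 := key _ invC_D4 m
    have h9 : ((t m : kˣ) : k) ^ 2 = 1 := by
      have := congrArg (fun u : kˣ => (u : k)) h8
      simpa [zpow_ofNat] using this
    have h10 : ((t m : k) - 1) ^ 2 = 0 := by
      have h2 : (2 : k) = 0 := CharTwo.two_eq_zero
      linear_combination h9 + (1 - (t m : k)) * h2
    have h11 := pow_eq_zero_iff (two_ne_zero) |>.1 h10
    exact Units.ext (by rw [Units.val_one]; exact sub_eq_zero.1 h11)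
  refine cX_inj tp8 hT (one_mem _) fun i => ?_
  rw [ht, cX_one]
  simp [ht1]

theorem hth (r : ℕ) (t : k) (_ : r < chevD4.nroots) :
    ((theta tp4.inList k (chevD4.stGen k r t) : GL chevD4.Idx k) : Matrix chevD4.Idx chevD4.Idx k) =
      chevD4.x k r t := theta_stGen tp4.inList r t

theorem ker_le : (theta (D := chevD4) tp4.inList k).ker ≤ (psi0 hb hG hk).ker := by
  intro z hz
  rw [MonoidHom.mem_ker]
  have h1 : z ∈ Hb k := Cfsg.Agent.S1097.result chevD4 tp4.inList (theta tp4.inList k) hth hz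
  apply psi0_center hb hG hk h1
  have hgH := h1
  have hg1 : thetaGL tp4.inList k z = 1 := by
    rw [← coe_theta, MonoidHom.mem_ker.1 hz]; rfl
  rw [Subgroup.mem_center_iff]
  have hcent : ∀ x : chevD4.SteinbergGroup k, x ∈ Subgroup.centralizer {z} := by
    apply St.Rels.mem_of_gens
    intro s hs t
    obtain ⟨a, -, ha⟩ := Cfsg.Agent.S1077.exists_scalar tp4.inList hgH hs
    have h1 := congrArg (thetaGL tp4.inList k) (ha t)
    rw [map_mul, map_mul, map_inv, hg1, one_mul, inv_one, mul_one, thetaGL_stGen, thetaGL_stGen] at h1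
    have h2 : t = a * t := xG_injective tp4.inList hs h1
    have h3 := ha t
    rw [← h2] at h3
    rw [Subgroup.mem_centralizer_singleton_iff]
    rw [mul_inv_eq_iff_eq_mul] at h3
    exact h3.symm
  intro x
  exact Subgroup.mem_centralizer_singleton_iff.1 (hcent x)

/-- the homomorphism on the Chevalley group -/
noncomputable def psi : ↥(chevD4.group k) →* ↥(chevE8.group k) :=
  MonoidHom.liftOfSurjective (theta (D := chevD4) tp4.inList k) (theta_surjective tp4.inList)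
    ⟨psi0 hb hG hk, ker_le hb hG hk⟩

theorem psi_theta (x : chevD4.SteinbergGroup k) : psi hb hG hk (theta tp4.inList k x) = psi0 hb hG hk x :=
  MonoidHom.liftOfRightInverse_comp_apply _ _ _ ⟨psi0 hb hG hk, ker_le hb hG hk⟩ x

theorem psi_xc {a : Fin 4 → ℤ} (ha : IsRoot cs4 tp4.isCartan a) (c : k) :
    psi hb hG hk (xc tp4 a c) = xc tp8 (Em b a) c := by
  obtain ⟨r, hr, rfl⟩ := (RGDChev.isRoot_iff tp4 cs4 _).1 ha
  rw [← psi0_stGen hb hG hk hr c, ← psi_theta]
  congr 1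
  apply Subtype.ext
  rw [coe_xc tp4 hr, coe_theta, thetaGL_stGen]

theorem psi_injective : Function.Injective (psi hb hG hk) := by
  rw [injective_iff_map_eq_one]
  have hsim := (Cfsg.Agent.S1054.result (F := k) chevD4 (by simp)).1
  have hn : (psi hb hG hk).ker.Normal := inferInstance
  rcases hn.eq_bot_or_eq_top with h | h
  · intro a ha
    have : a ∈ (psi hb hG hk).ker := ha
    rw [h] at this
    exact this
  · exfalso
    have h1 : psi hb hG hk (xc tp4 (sr 0) 1) = 1 := by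
      have : (xc tp4 (sr 0) 1 : ↥(chevD4.group k)) ∈ (psi hb hG hk).ker := by rw [h]; trivial
      exact this
    rw [psi_xc hb hG hk (isRoot_sr cs4 tp4.isCartan 0), Em_sr] at h1
    obtain ⟨r, hr, e⟩ := (RGDChev.isRoot_iff tp8 cs8 _).1 (hb 0)
    rw [← e, ← xc_zero (k := k) (vec chevE8 8 r)] at h1
    exact one_ne_zero (xc_inj tp8 hr h1)

end

/-- **Piece P.** -/
theorem exists_psi (k : Type) [Field k] [CharP k 2] [IsAlgClosed k] (hk : LocFin k) (b : Fin 4 → Fin 8 → ℤ)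
    (hb : ∀ i, Rt (b i)) (hG : ∀ i j, i ≠ j → bf (b i) (b j) = if Adj i j then -1 else 0) :
    ∃ ψ : ↥(chevD4.group k) →* ↥(chevE8.group k), Function.Injective ψ ∧
      ∀ a : Fin 4 → ℤ, IsRoot coxeterD4.toCoxeterSystem tp4.isCartan a →
        Rt (∑ i, a i • b i) ∧ ∀ c : k, ψ (xc tp4 a c) = xc tp8 (∑ i, a i • b i) c :=
  ⟨psi hb hG hk, psi_injective hb hG hk, fun _ ha => ⟨Em_root hb hG ha, fun c => psi_xc hb hG hk ha c⟩⟩

end Cfsg.Agent.H405.EE
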